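import Mathlib.RingTheory.Kaehler.Basic
import Mathlib.RingTheory.Smooth.Basic
import Mathlib.RingTheory.Spectrum.Prime.FreeLocus
import Mathlib.RingTheory.LocalRing.ResidueField.Ideal
import Mathlib.LinearAlgebra.ExteriorPower.Basic
import Mathlib.LinearAlgebra.Matrix.Determinant.Basic
import Mathlib.LinearAlgebra.Basis.VectorSpace
import Mathlib.RingTheory.Flat.Rank

/-!
# The ideal of derivatives of the equation of a hypersurface
-/

universe u

noncomputable section

open TensorProduct KaehlerDifferential

namespace Groth.Agent.HypAnn28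

variable {A B R : Type u} [CommRing A] [CommRing B] [CommRing R] [Algebra A B] [Algebra B R]
  [Algebra A R] [IsScalarTower A B R]

/-- At a maximal ideal some derivations form a basis of the dual of the differentials. -/
theorem exists_det_notMem [Algebra.Smooth A B] (n : ℕ)
    (hn : ∀ p : PrimeSpectrum B, Module.rankAtStalk (Ω[B⁄A]) p = n) (m : Ideal B) [m.IsMaximal] :
    ∃ (θ : Fin n → Derivation A B B) (b : Fin n → B),
      (Matrix.of fun j i => θ i (b j)).det ∉ m := by
  classical
  let k := m.ResidueField
  let V := k ⊗[B] Ω[B⁄A]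
  have hk : Function.Surjective (algebraMap B k) := m.algebraMap_residueField_surjective
  have hrank : Module.finrank k V = n := by
    have h := hn ⟨m, inferInstance⟩
    rw [Module.rankAtStalk_eq] at h
    exact h
  have hspan : ⊤ ≤ Submodule.span k (Set.range fun b : B => (1 : k) ⊗ₜ[B] D A B b) := by
    intro v htop
    clear htop
    induction v with
    | zero => exact zero_mem _
    | add x y hx hy => exact add_mem hx hy
    | tmul c x =>
      rw [show c ⊗ₜ[B] x = c • ((1 : k) ⊗ₜ[B] x) by rw [TensorProduct.smul_tmul', smul_eq_mul, mul_one]]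
      refine Submodule.smul_mem _ _ ?_
      have hx : x ∈ Submodule.span B (Set.range (D A B)) := by
        rw [span_range_derivation]; trivial
      induction hx using Submodule.span_induction with
      | mem x hx => obtain ⟨b, rfl⟩ := hx; exact Submodule.subset_span ⟨b, rfl⟩
      | zero => rw [TensorProduct.tmul_zero]; exact zero_mem _
      | add x y _ _ hx hy => rw [TensorProduct.tmul_add]; exact add_mem hx hy
      | smul r x _ hx =>
        rw [TensorProduct.tmul_smul, ← algebraMap_smul k r]
        exact Submodule.smul_mem _ _ hx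
  let e0 := Module.Basis.ofSpan hspan
  haveI : Module.Finite k V := inferInstance
  haveI : Finite _ := Module.Finite.finite_basis e0
  haveI := Fintype.ofFinite ↥((linearIndepOn_empty k (id : V → V)).extend
    (Set.empty_subset (Set.range fun b : B => (1 : k) ⊗ₜ[B] D A B b)))
  let e := e0.reindex (Fintype.equivFinOfCardEq ((Module.finrank_eq_card_basis e0).symm.trans hrank))
  have hb : ∀ j, ∃ b : B, (1 : k) ⊗ₜ[B] D A B b = e j := fun j => by
    refine Module.Basis.ofSpan_subset hspan ⟨(Fintype.equivFinOfCardEq _).symm j, (e0.reindex_apply _ j).symm⟩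
  choose b hb using hb
  have hlift : ∀ i, ∃ ψ : Ω[B⁄A] →ₗ[B] B,
      Algebra.linearMap B k ∘ₗ ψ = (e.coord i).restrictScalars B ∘ₗ TensorProduct.mk B k (Ω[B⁄A]) 1 := fun i =>
    Module.projective_lifting_property _ _ hk
  choose ψ hψ using hlift
  refine ⟨fun i => (ψ i).compDer (D A B), b, fun hdet => ?_⟩
  have h : algebraMap B k (Matrix.of fun j i => ((ψ i).compDer (D A B)) (b j)).det = 1 := by
    rw [RingHom.map_det, show (algebraMap B k).mapMatrix (Matrix.of fun j i => ((ψ i).compDer (D A B)) (b j)) = 1 from ?_,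
      Matrix.det_one]
    ext j i
    refine (LinearMap.congr_fun (hψ i) (D A B (b j))).trans ?_
    show e.coord i ((1 : k) ⊗ₜ[B] D A B (b j)) = _
    rw [hb, Module.Basis.coord_apply, e.repr_self, Finsupp.single_apply, Matrix.one_apply]
  rw [Ideal.algebraMap_residueField_eq_zero.2 hdet] at h
  exact zero_ne_one h

variable (hsurj : Function.Surjective (algebraMap B R)) (g : B)
  (hker : RingHom.ker (algebraMap B R) = Ideal.span {g})

include hker in
theorem mk_deriv_eq_zero (J : Ideal R) (θ : Derivation A B B) (hθ : algebraMap B R (θ g) ∈ J) (b : B)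
    (hb : algebraMap B R b = 0) : Ideal.Quotient.mk J (algebraMap B R (θ b)) = 0 := by
  have hg0 : algebraMap B R g = 0 := by
    rw [← RingHom.mem_ker, hker]; exact Ideal.mem_span_singleton_self g
  have hb' : b ∈ RingHom.ker (algebraMap B R) := hb
  rw [hker, Ideal.mem_span_singleton'] at hb'
  obtain ⟨c, rfl⟩ := hb'
  rw [Derivation.leibniz, map_add, map_add, smul_eq_mul, smul_eq_mul, map_mul, map_mul (algebraMap B R) g, hg0,
    zero_mul, map_zero, add_zero, map_mul, Ideal.Quotient.eq_zero_iff_mem.2 hθ, mul_zero]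

include hsurj hker in
theorem exists_derivation_quot (J : Ideal R) (θ : Derivation A B B) (hθ : algebraMap B R (θ g) ∈ J) :
    ∃ L : Ω[R⁄A] →ₗ[R] R ⧸ J, ∀ b, L (D A R (algebraMap B R b)) = Ideal.Quotient.mk J (algebraMap B R (θ b)) := by
  let f : R → R ⧸ J := fun r => Ideal.Quotient.mk J (algebraMap B R (θ (Function.surjInv hsurj r)))
  have hf : ∀ b, f (algebraMap B R b) = Ideal.Quotient.mk J (algebraMap B R (θ b)) := fun b => by
    rw [← sub_eq_zero]
    show Ideal.Quotient.mk J (algebraMap B R (θ _)) - _ = 0
    rw [← map_sub, ← map_sub, ← map_sub]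
    exact mk_deriv_eq_zero g hker J θ hθ _ (by rw [map_sub, Function.surjInv_eq hsurj, sub_self])
  let D0 : Derivation A R (R ⧸ J) := Derivation.mk'
    { toFun := f
      map_add' := fun x y => by
        obtain ⟨x, rfl⟩ := hsurj x; obtain ⟨y, rfl⟩ := hsurj y
        rw [← map_add, hf, hf, hf, map_add, map_add, map_add]
      map_smul' := fun a x => by
        obtain ⟨x, rfl⟩ := hsurj x
        rw [RingHom.id_apply, Algebra.smul_def, IsScalarTower.algebraMap_apply A B R, ← map_mul, hf, hf,
          ← Algebra.smul_def, Derivation.map_smul, Algebra.smul_def, map_mul,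
          ← IsScalarTower.algebraMap_apply A B R, map_mul, Algebra.smul_def]
        rfl }
    (fun x y => by
      obtain ⟨x, rfl⟩ := hsurj x; obtain ⟨y, rfl⟩ := hsurj y
      show f _ = algebraMap B R x • f _ + algebraMap B R y • f _
      rw [← map_mul, hf, hf, hf, Derivation.leibniz, map_add, map_add, smul_eq_mul, smul_eq_mul, map_mul, map_mul,
        Algebra.smul_def, Algebra.smul_def, map_mul (algebraMap B R) y, map_mul]
      rfl)
  exact ⟨D0.liftKaehlerDifferential, fun b => (Derivation.liftKaehlerDifferential_comp_D D0 _).trans (hf b)⟩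

include hsurj hker in
/-- The annihilator of the top exterior power lies in the ideal of derivatives of the equation. -/
theorem annihilator_le [Algebra.Smooth A B] (n : ℕ)
    (hn : ∀ p : PrimeSpectrum B, Module.rankAtStalk (Ω[B⁄A]) p = n) (J : Ideal R)
    (hJ : ∀ θ : Derivation A B B, algebraMap B R (θ g) ∈ J) :
    (⋀[R]^n (Ω[R⁄A])).annihilator ≤ J := by
  classical
  intro h hh
  let C : Ideal B := (Submodule.colon J {h}).comap (algebraMap B R)
  suffices hC : C = ⊤ by
    have h1 : (1 : B) ∈ C := hC ▸ Submodule.mem_top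
    rw [Ideal.mem_comap, Submodule.mem_colon_singleton, map_one, one_smul] at h1
    exact h1
  by_contra hC
  obtain ⟨m, hm, hCm⟩ := Ideal.exists_le_maximal C hC
  obtain ⟨θ, b, hdet⟩ := exists_det_notMem n hn m
  refine hdet (hCm ?_)
  choose L hL using fun i => exists_derivation_quot hsurj g hker J (θ i) (hJ (θ i))
  let detR : AlternatingMap R (Fin n → R ⧸ J) (R ⧸ J) (Fin n) :=
    { (Matrix.detRowAlternating : AlternatingMap (R ⧸ J) (Fin n → R ⧸ J) (R ⧸ J) (Fin n)).toMultilinearMap.restrictScalars R with
      map_eq_zero_of_eq' := fun v i j hv hij =>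
        (Matrix.detRowAlternating : AlternatingMap (R ⧸ J) (Fin n → R ⧸ J) (R ⧸ J) (Fin n)).map_eq_zero_of_eq v hv hij }
  let φ := exteriorPower.alternatingMapLinearEquiv (detR.compLinearMap (LinearMap.pi L))
  let v : ⋀[R]^n (Ω[R⁄A]) := exteriorPower.ιMulti R n fun j => D A R (algebraMap B R (b j))
  have hv : h • v = 0 := Subtype.ext (Submodule.mem_annihilator.1 hh _ v.2)
  have h1 := congrArg φ hv
  rw [map_smul, map_zero, exteriorPower.alternatingMapLinearEquiv_apply_ιMulti] at h1
  rw [Ideal.mem_comap, Submodule.mem_colon_singleton, smul_eq_mul, ← Ideal.Quotient.eq_zero_iff_mem, ← h1,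
    mul_comm, map_mul, Algebra.smul_def]
  refine congrArg _ ?_
  rw [RingHom.map_det, RingHom.map_det]
  refine congrArg Matrix.det ?_
  ext j i
  exact (hL i (b j)).symm

end Groth.Agent.HypAnn28
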