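import Groth.Agent.Lib.HypAnn28.Res
import Groth.Agent.Lib.HypTor28.Periodic
import Mathlib.LinearAlgebra.DirectSum.Finsupp
import Mathlib.RingTheory.Derivation.Basic

/-!
# Derivatives of lifted resolutions over a hypersurface
-/

universe u

noncomputable section

open CategoryTheory CategoryTheory.Limits TensorProduct

namespace Groth.Agent.HypAnn28

set_option linter.unusedSectionVars false

section DF

variable {A B : Type u} [CommRing A] [CommRing B] [Algebra A B] (θ : Derivation A B B)

/-- A derivation applied to coordinates. -/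
def DF (ι : Type u) (x : ι →₀ B) : ι →₀ B := Finsupp.mapRange θ (map_zero θ) x

theorem DF_add {ι : Type u} (x y : ι →₀ B) : DF θ ι (x + y) = DF θ ι x + DF θ ι y :=
  Finsupp.mapRange_add (fun a b => map_add θ a b) x y

theorem DF_smul {ι : Type u} (b : B) (x : ι →₀ B) : DF θ ι (b • x) = b • DF θ ι x + θ b • x := by
  ext i
  simp [DF, smul_eq_mul]
  ring

theorem DF_single {ι : Type u} (i : ι) (b : B) : DF θ ι (Finsupp.single i b) = Finsupp.single i (θ b) :=
  Finsupp.mapRange_single

/-- The derivative of a linear map between free modules. -/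
def deriv {κ ι : Type u} (f : (κ →₀ B) →ₗ[B] (ι →₀ B)) : (κ →₀ B) →ₗ[B] (ι →₀ B) :=
  Finsupp.linearCombination B fun i => DF θ ι (f (Finsupp.single i 1))

theorem deriv_single {κ ι : Type u} (f : (κ →₀ B) →ₗ[B] (ι →₀ B)) (i : κ) :
    deriv θ f (Finsupp.single i 1) = DF θ ι (f (Finsupp.single i 1)) := by
  rw [deriv, Finsupp.linearCombination_single, one_smul]

theorem DF_apply {κ ι : Type u} (f : (κ →₀ B) →ₗ[B] (ι →₀ B)) (x : κ →₀ B) :
    DF θ ι (f x) = deriv θ f x + f (DF θ κ x) := by
  induction x using Finsupp.induction_linear with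
  | zero => simp [DF]
  | add a b ha hb => rw [map_add, DF_add, ha, hb, map_add, DF_add, map_add]; abel
  | single i b =>
    have e : Finsupp.single i b = b • Finsupp.single i (1 : B) := by rw [Finsupp.smul_single_one]
    rw [e, map_smul, DF_smul, DF_smul, map_smul, map_add, map_smul, map_smul, deriv_single, DF_single,
      Derivation.map_one_eq_zero, Finsupp.single_zero, map_zero, smul_zero, zero_add]

end DF

variable {B R : Type u} [CommRing B] [CommRing R] [Algebra B R] (g : B) (hg : IsSMulRegular B g)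
  (hsurj : Function.Surjective (algebraMap B R)) (hker : RingHom.ker (algebraMap B R) = Ideal.span {g})
  (ι : ℕ → Type u) (dR : ∀ n, (ι (n + 1) →₀ R) →ₗ[R] (ι n →₀ R))
  (hd : ∀ n, Function.Exact (dR (n + 1)) (dR n))

/-- A lift of the differential to free modules over `B`. -/
def dL (n : ℕ) : (ι (n + 1) →₀ B) →ₗ[B] (ι n →₀ B) :=
  Finsupp.linearCombination B fun i =>
    (HypTor28.red_surjective (B := B) hsurj (ι n) (dR n (Finsupp.single i 1))).choose

include hsurj in
theorem red_dL (n : ℕ) (x : ι (n + 1) →₀ B) :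
    HypTor28.red (R := R) (ι n) (dL hsurj ι dR n x) = dR n (HypTor28.red (R := R) (ι (n + 1)) x) := by
  induction x using Finsupp.induction_linear with
  | zero => simp
  | add a b ha hb => simp only [map_add, ha, hb]
  | single i b =>
    rw [dL, Finsupp.linearCombination_single, map_smul,
      (HypTor28.red_surjective (B := B) hsurj (ι n) (dR n (Finsupp.single i 1))).choose_spec,
      show HypTor28.red (R := R) (ι (n + 1)) (Finsupp.single i b) = algebraMap B R b • Finsupp.single i (1 : R) by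
        simp [HypTor28.red, Algebra.smul_def],
      map_smul, algebraMap_smul]

include hd hker in
theorem exists_dL_dL (n : ℕ) (x : ι (n + 2) →₀ B) :
    ∃ y, dL hsurj ι dR n (dL hsurj ι dR (n + 1) x) = g • y :=
  (HypTor28.red_eq_zero g hker _).1 (by rw [red_dL, red_dL, (hd n).apply_apply_eq_zero])

/-- The Eisenbud operator. -/
def tL (n : ℕ) : (ι (n + 2) →₀ B) →ₗ[B] (ι n →₀ B) :=
  Finsupp.linearCombination B fun i => (exists_dL_dL g hsurj hker ι dR hd n (Finsupp.single i 1)).choose

theorem dd (n : ℕ) (x : ι (n + 2) →₀ B) :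
    dL hsurj ι dR n (dL hsurj ι dR (n + 1) x) = g • tL g hsurj hker ι dR hd n x := by
  induction x using Finsupp.induction_linear with
  | zero => simp
  | add a b ha hb => simp only [map_add, ha, hb, smul_add]
  | single i b =>
    have e : Finsupp.single i b = b • Finsupp.single i (1 : B) := by rw [Finsupp.smul_single_one]
    rw [e, map_smul, map_smul, map_smul, tL, Finsupp.linearCombination_single, one_smul, smul_comm g b,
      ← (exists_dL_dL g hsurj hker ι dR hd n (Finsupp.single i 1)).choose_spec]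

include hg in
theorem dt (n : ℕ) (x : ι (n + 3) →₀ B) :
    dL hsurj ι dR n (tL g hsurj hker ι dR hd (n + 1) x) =
      tL g hsurj hker ι dR hd n (dL hsurj ι dR (n + 2) x) :=
  HypTor28.smul_injective g hg (ι n) (by
    rw [← map_smul, ← dd, ← dd])

/-- The derivative of the square of the lifted differential. -/
theorem smul_tL {A : Type u} [CommRing A] [Algebra A B] (θ : Derivation A B B) (n : ℕ) (x : ι (n + 2) →₀ B) :
    θ g • tL g hsurj hker ι dR hd n x =
      deriv θ (dL hsurj ι dR n) (dL hsurj ι dR (n + 1) x) + dL hsurj ι dR n (deriv θ (dL hsurj ι dR (n + 1)) x) -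
        g • deriv θ (tL g hsurj hker ι dR hd n) x := by
  induction x using Finsupp.induction_linear with
  | zero => simp
  | add a b ha hb => simp only [map_add, smul_add, ha, hb]; abel
  | single i b =>
    have e : Finsupp.single i b = b • Finsupp.single i (1 : B) := by rw [Finsupp.smul_single_one]
    rw [e]
    simp only [map_smul]
    rw [smul_comm (θ g) b, smul_comm g b, ← smul_add, ← smul_sub]
    congr 1
    have h1 := DF_apply θ (dL hsurj ι dR n) (dL hsurj ι dR (n + 1) (Finsupp.single i 1))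
    rw [dd g hsurj hker ι dR hd n, DF_smul] at h1
    rw [deriv_single θ (dL hsurj ι dR (n + 1)), deriv_single θ (tL g hsurj hker ι dR hd n)]
    rw [← h1]
    abel

section G

/-- The index type one below. -/
@[reducible] def prev : ℕ → Type u
  | 0 => PEmpty
  | n + 1 => ι n

/-- The second component of the differential of the resolution over `B`. -/
def δsnd : ∀ n, (ι (n + 1) →₀ B) × (prev ι (n + 1) →₀ B) →ₗ[B] (prev ι n →₀ B)
  | 0 => 0
  | n + 1 => -(tL g hsurj hker ι dR hd n ∘ₗ LinearMap.fst B (ι (n + 2) →₀ B) (ι (n + 1) →₀ B)) -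
      dL hsurj ι dR n ∘ₗ LinearMap.snd B (ι (n + 2) →₀ B) (ι (n + 1) →₀ B)

/-- The differential of the resolution over `B`. -/
def δ (n : ℕ) : (ι (n + 1) →₀ B) × (prev ι (n + 1) →₀ B) →ₗ[B] (ι n →₀ B) × (prev ι n →₀ B) :=
  LinearMap.prod
    (dL hsurj ι dR n ∘ₗ LinearMap.fst B (ι (n + 1) →₀ B) (prev ι (n + 1) →₀ B) +
      g • LinearMap.snd B (ι (n + 1) →₀ B) (ι n →₀ B))
    (δsnd g hsurj hker ι dR hd n)

theorem δ_fst (n : ℕ) (z : (ι (n + 1) →₀ B) × (ι n →₀ B)) :
    (δ g hsurj hker ι dR hd n z).1 = dL hsurj ι dR n z.1 + g • z.2 := rfl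

theorem δ_snd (n : ℕ) (z : (ι (n + 2) →₀ B) × (ι (n + 1) →₀ B)) :
    (δ g hsurj hker ι dR hd (n + 1) z).2 = -(tL g hsurj hker ι dR hd n z.1) - dL hsurj ι dR n z.2 := rfl

include hg in
theorem δ_exact (n : ℕ) : Function.Exact (δ g hsurj hker ι dR hd (n + 1)) (δ g hsurj hker ι dR hd n) := by
  have hred : ∀ (m : ℕ) (y : ι m →₀ B), HypTor28.red (R := R) (ι m) (g • y) = 0 := fun m y =>
    (HypTor28.red_eq_zero g hker _).2 ⟨y, rfl⟩
  intro z
  obtain ⟨x, y⟩ := z
  change ι n →₀ B at y
  constructor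
  · intro hz
    have h1 : dL hsurj ι dR n x + g • y = 0 := congrArg Prod.fst hz
    have h2 : dR n (HypTor28.red (R := R) _ x) = 0 := by
      rw [← red_dL hsurj, eq_neg_of_add_eq_zero_left h1, map_neg, hred, neg_zero]
    obtain ⟨u, hu⟩ := (hd n _).1 h2
    obtain ⟨x', rfl⟩ := HypTor28.red_surjective hsurj _ u
    obtain ⟨w, hw⟩ := (HypTor28.red_eq_zero (R := R) g hker (x - dL hsurj ι dR (n + 1) x')).1
      (by rw [map_sub, red_dL, hu, sub_self])
    refine ⟨(x', w), Prod.ext ?_ (HypTor28.smul_injective g hg _ ?_)⟩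
    · show dL hsurj ι dR (n + 1) x' + g • w = x
      rw [← hw, add_sub_cancel]
    · show g • (-(tL g hsurj hker ι dR hd n x') - dL hsurj ι dR n w) = g • y
      rw [smul_sub, smul_neg, ← dd, ← map_smul, ← hw, map_sub]
      rw [eq_neg_of_add_eq_zero_right h1]
      abel
  · rintro ⟨⟨x', w⟩, hxw⟩
    change ι (n + 1) →₀ B at w
    rw [← hxw]
    refine Prod.ext ?_ ?_
    · show dL hsurj ι dR n (dL hsurj ι dR (n + 1) x' + g • w) +
        g • (-(tL g hsurj hker ι dR hd n x') - dL hsurj ι dR n w) = 0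
      rw [map_add, map_smul, dd g hsurj hker ι dR hd, smul_sub, smul_neg]
      abel
    · cases n with
      | zero => exact Subsingleton.elim _ _
      | succ m =>
        show -(tL g hsurj hker ι dR hd m (dL hsurj ι dR (m + 2) x' + g • w)) -
          dL hsurj ι dR m (-(tL g hsurj hker ι dR hd (m + 1) x') - dL hsurj ι dR (m + 1) w) = 0
        rw [map_add, map_sub, map_neg, map_smul, ← dt g hg, dd g hsurj hker ι dR hd]
        abel

variable {N : Type u} [AddCommGroup N] [Module R N] [Module B N] [IsScalarTower B R N]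
  (π : (ι 0 →₀ R) →ₗ[R] N) (hπd : Function.Exact (dR 0) π) (hπ : Function.Surjective π)

/-- The augmentation over `B`. -/
def augB : (ι 0 →₀ B) × (prev ι 0 →₀ B) →ₗ[B] N :=
  π.restrictScalars B ∘ₗ HypTor28.red (R := R) (ι 0) ∘ₗ LinearMap.fst B _ _

include hsurj hπ in
theorem augB_surjective : Function.Surjective (augB (B := B) ι π) := fun m => by
  obtain ⟨u, rfl⟩ := hπ m
  obtain ⟨x, rfl⟩ := HypTor28.red_surjective hsurj _ u
  exact ⟨(x, 0), rfl⟩

include hπd in
theorem augB_exact : Function.Exact (δ g hsurj hker ι dR hd 0) (augB (B := B) ι π) := by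
  intro z
  obtain ⟨x, y⟩ := z
  constructor
  · intro hz
    have h1 : π (HypTor28.red (R := R) (ι 0) x) = 0 := hz
    obtain ⟨u, hu⟩ := (hπd _).1 h1
    obtain ⟨x', rfl⟩ := HypTor28.red_surjective hsurj _ u
    obtain ⟨w, hw⟩ := (HypTor28.red_eq_zero (R := R) g hker (x - dL hsurj ι dR 0 x')).1
      (by rw [map_sub, red_dL, hu, sub_self])
    refine ⟨(x', w), Prod.ext ?_ (Subsingleton.elim _ _)⟩
    show dL hsurj ι dR 0 x' + g • w = x
    rw [← hw, add_sub_cancel]
  · rintro ⟨⟨x', w⟩, hxw⟩
    rw [← hxw]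
    show π (HypTor28.red (R := R) (ι 0) (dL hsurj ι dR 0 x' + g • w)) = 0
    rw [map_add, red_dL, (HypTor28.red_eq_zero g hker _).2 ⟨w, rfl⟩, add_zero, hπd.apply_apply_eq_zero]

end G

section Tensor

variable (M : Type u) [AddCommGroup M] [Module R M] [Module B M] [IsScalarTower B R M]

/-- Reduction after tensoring. -/
def redM (κ : Type u) : M ⊗[B] (κ →₀ B) →ₗ[B] M ⊗[R] (κ →₀ R) :=
  TensorProduct.lift (LinearMap.mk₂ B (fun m x => m ⊗ₜ[R] HypTor28.red (R := R) κ x)
    (fun m m' x => TensorProduct.add_tmul _ _ _) (fun c m x => by rw [TensorProduct.smul_tmul'])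
    (fun m x x' => by rw [map_add, TensorProduct.tmul_add])
    (fun c m x => by
      rw [map_smul, ← algebraMap_smul R c (HypTor28.red (R := R) κ x), TensorProduct.tmul_smul, algebraMap_smul]))

theorem redM_tmul (κ : Type u) (m : M) (x : κ →₀ B) :
    redM (R := R) M κ (m ⊗ₜ[B] x) = m ⊗ₜ[R] HypTor28.red (R := R) κ x := rfl

theorem redM_bijective (κ : Type u) : Function.Bijective (redM (B := B) (R := R) M κ) := by
  classical
  let eR := TensorProduct.finsuppScalarRight R R M κ
  let eB := TensorProduct.finsuppScalarRight B B M κ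
  have h : ∀ z, eR (redM (R := R) M κ z) = eB z := by
    intro z
    induction z with
    | zero => simp
    | tmul m x =>
      ext i
      rw [redM_tmul, TensorProduct.finsuppScalarRight_apply_tmul_apply,
        TensorProduct.finsuppScalarRight_apply_tmul_apply]
      show algebraMap B R (x i) • m = x i • m
      rw [algebraMap_smul]
    | add a b ha hb => simp only [map_add, ha, hb]
  have : (fun z => eR.symm (eB z)) = redM (B := B) (R := R) M κ := funext fun z => by
    rw [← h, LinearEquiv.symm_apply_apply]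
  rw [← this]
  exact eR.symm.bijective.comp eB.bijective

theorem redM_comm {κ κ' : Type u} (f : (κ →₀ B) →ₗ[B] (κ' →₀ B)) (fR : (κ →₀ R) →ₗ[R] (κ' →₀ R))
    (hf : ∀ x, HypTor28.red (R := R) κ' (f x) = fR (HypTor28.red (R := R) κ x)) (z : M ⊗[B] (κ →₀ B)) :
    redM (R := R) M κ' (f.lTensor M z) = fR.lTensor M (redM (R := R) M κ z) := by
  induction z with
  | zero => simp
  | tmul m x => rw [LinearMap.lTensor_tmul, redM_tmul, redM_tmul, LinearMap.lTensor_tmul, hf]
  | add a b ha hb => simp only [map_add, ha, hb]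

end Tensor

variable {N : Type u} [AddCommGroup N] [Module R N] [Module B N] [IsScalarTower B R N]
  (π : (ι 0 →₀ R) →ₗ[R] N) (hπd : Function.Exact (dR 0) π) (hπ : Function.Surjective π)

/-- The family underlying the resolution over `B`. -/
abbrev XB (B : Type u) [CommRing B] (ι : ℕ → Type u) (n : ℕ) : Type u := (ι n →₀ B) × (prev ι n →₀ B)

include hg hπd hπ in
theorem ex_δ (M : Type u) [AddCommGroup M] [Module B M] (i : ℕ)
    (hM : IsZero (((Tor (ModuleCat.{u} B) (i + 1)).obj (ModuleCat.of B M)).obj (ModuleCat.of B N))) :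
    ResExact.Ex (X := XB B ι) (δ g hsurj hker ι dR hd) M i :=
  ex_of_isZero_tor (X := XB B ι) (δ g hsurj hker ι dR hd) (augB (B := B) ι π) (δ_exact g hg hsurj hker ι dR hd)
    (augB_exact g hsurj hker ι dR hd π hπd) (augB_surjective hsurj ι π hπ) M i hM

include hg hd hsurj hker hπd hπ in
/-- Derivatives of the equation kill `Tor` above the tor dimension over `B`. -/
theorem deriv_mem_annihilator {A : Type u} [CommRing A] [Algebra A B] (θ : Derivation A B B)
    (M : Type u) [AddCommGroup M] [Module R M] [Module B M] [IsScalarTower B R M] (s : ℕ)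
    (hM : IsZero (((Tor (ModuleCat.{u} B) (s + 2)).obj (ModuleCat.of B M)).obj (ModuleCat.of B N))) :
    algebraMap B R (θ g) ∈ Module.annihilator R
      (((Tor (ModuleCat.{u} R) (s + 1)).obj (ModuleCat.of R M)).obj (ModuleCat.of R N)) := by
  refine mem_annihilator_tor (X := fun i => ι i →₀ R) dR π hd hπd hπ M s _ fun z hz => ?_
  obtain ⟨z, rfl⟩ := (redM_bijective (B := B) M (ι (s + 1))).2 z
  rw [← redM_comm M _ _ (red_dL hsurj ι dR s)] at hz
  replace hz : (dL hsurj ι dR s).lTensor M z = 0 := (redM_bijective M (ι s)).1 (hz.trans (map_zero _).symm)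
  have hgM : ∀ {κ : Type u} (w : M ⊗[B] (κ →₀ B)), g • w = 0 := fun {κ} w => by
    induction w with
    | zero => simp
    | tmul m x => rw [TensorProduct.smul_tmul', HypTor28.g_smul_eq_zero (R := R) g hker m, TensorProduct.zero_tmul]
    | add a b ha hb => rw [smul_add, ha, hb, add_zero]
  have hex : ResExact.Ex (X := XB B ι) (δ g hsurj hker ι dR hd) M (s + 1) :=
    ex_δ g hg hsurj hker ι dR hd π hπd hπ M (s + 1) hM
  let z' := (LinearMap.inr B (ι (s + 2) →₀ B) (ι (s + 1) →₀ B)).lTensor M z
  have hz' : (δ g hsurj hker ι dR hd (s + 1)).lTensor M z' = 0 := by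
    have e : δ g hsurj hker ι dR hd (s + 1) ∘ₗ LinearMap.inr B (ι (s + 2) →₀ B) (ι (s + 1) →₀ B) =
        LinearMap.inl B (ι (s + 1) →₀ B) (ι s →₀ B) ∘ₗ (g • LinearMap.id) +
          LinearMap.inr B (ι (s + 1) →₀ B) (ι s →₀ B) ∘ₗ (-dL hsurj ι dR s) := by
      refine LinearMap.ext fun y => Prod.ext ?_ ?_
      · show dL hsurj ι dR (s + 1) 0 + g • y = g • y + 0
        rw [map_zero, zero_add, add_zero]
      · show -(tL g hsurj hker ι dR hd s 0) - dL hsurj ι dR s y = 0 + -(dL hsurj ι dR s y)
        rw [map_zero, neg_zero, zero_sub, zero_add]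
    rw [← LinearMap.lTensor_comp_apply]
    refine (LinearMap.congr_fun (congrArg (LinearMap.lTensor M) e) z).trans ?_
    rw [LinearMap.lTensor_add, LinearMap.add_apply, LinearMap.lTensor_comp_apply, LinearMap.lTensor_comp_apply,
      LinearMap.lTensor_smul, LinearMap.smul_apply, hgM, map_zero, LinearMap.lTensor_neg, LinearMap.neg_apply, hz,
      neg_zero, map_zero, add_zero]
  obtain ⟨w, hw⟩ := (hex z').1 hz'
  let fstL := LinearMap.fst B (ι (s + 2 + 1) →₀ B) (ι (s + 2) →₀ B)
  let sndL := LinearMap.snd B (ι (s + 2 + 1) →₀ B) (ι (s + 2) →₀ B)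
  have hx : (dL hsurj ι dR (s + 2)).lTensor M (fstL.lTensor M w) = 0 := by
    have h1 := congrArg ((LinearMap.fst B (ι (s + 2) →₀ B) (ι (s + 1) →₀ B)).lTensor M) hw
    simp only [z'] at h1
    rw [← LinearMap.lTensor_comp_apply, ← LinearMap.lTensor_comp_apply, LinearMap.fst_comp_inr,
      LinearMap.lTensor_zero, LinearMap.zero_apply] at h1
    have e : LinearMap.fst B (ι (s + 2) →₀ B) (ι (s + 1) →₀ B) ∘ₗ δ g hsurj hker ι dR hd (s + 2) =
        dL hsurj ι dR (s + 2) ∘ₗ fstL + g • sndL := LinearMap.fst_prod _ _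
    refine Eq.trans ?_ h1
    refine Eq.trans ?_ (LinearMap.congr_fun (congrArg (LinearMap.lTensor M) e) w).symm
    rw [LinearMap.lTensor_add, LinearMap.add_apply, LinearMap.lTensor_smul, LinearMap.smul_apply, hgM, add_zero,
      LinearMap.lTensor_comp_apply]
  have hy : z = -((tL g hsurj hker ι dR hd (s + 1)).lTensor M (fstL.lTensor M w)) -
      (dL hsurj ι dR (s + 1)).lTensor M (sndL.lTensor M w) := by
    have h1 := congrArg ((LinearMap.snd B (ι (s + 2) →₀ B) (ι (s + 1) →₀ B)).lTensor M) hw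
    simp only [z'] at h1
    rw [← LinearMap.lTensor_comp_apply, ← LinearMap.lTensor_comp_apply, LinearMap.snd_comp_inr,
      LinearMap.lTensor_id, LinearMap.id_apply] at h1
    have e : LinearMap.snd B (ι (s + 2) →₀ B) (ι (s + 1) →₀ B) ∘ₗ δ g hsurj hker ι dR hd (s + 2) =
        -(tL g hsurj hker ι dR hd (s + 1) ∘ₗ fstL) - dL hsurj ι dR (s + 1) ∘ₗ sndL := LinearMap.snd_prod _ _
    refine h1.symm.trans ((LinearMap.congr_fun (congrArg (LinearMap.lTensor M) e) w).trans ?_)
    rw [LinearMap.lTensor_sub, LinearMap.sub_apply, LinearMap.lTensor_neg, LinearMap.neg_apply,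
      LinearMap.lTensor_comp_apply, LinearMap.lTensor_comp_apply]
  -- `θ g` times the Eisenbud operator is null homotopic
  have hkey : θ g • (tL g hsurj hker ι dR hd (s + 1)).lTensor M (fstL.lTensor M w) =
      (dL hsurj ι dR (s + 1)).lTensor M
        ((deriv θ (dL hsurj ι dR (s + 2))).lTensor M (fstL.lTensor M w)) := by
    have e : θ g • tL g hsurj hker ι dR hd (s + 1) =
        deriv θ (dL hsurj ι dR (s + 1)) ∘ₗ dL hsurj ι dR (s + 2) +
          dL hsurj ι dR (s + 1) ∘ₗ deriv θ (dL hsurj ι dR (s + 2)) -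
          g • deriv θ (tL g hsurj hker ι dR hd (s + 1)) :=
      LinearMap.ext fun x => smul_tL g hsurj hker ι dR hd θ (s + 1) x
    rw [← LinearMap.smul_apply, ← LinearMap.lTensor_smul, e, LinearMap.lTensor_sub, LinearMap.sub_apply,
      LinearMap.lTensor_add, LinearMap.add_apply, LinearMap.lTensor_comp_apply, LinearMap.lTensor_comp_apply, hx,
      map_zero, zero_add, LinearMap.lTensor_smul, LinearMap.smul_apply, hgM, sub_zero]
  refine ⟨redM (R := R) M (ι (s + 2)) (-((deriv θ (dL hsurj ι dR (s + 2))).lTensor M (fstL.lTensor M w)) -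
    θ g • sndL.lTensor M w), ?_⟩
  rw [← redM_comm M _ _ (red_dL hsurj ι dR (s + 1)), algebraMap_smul, hy, ← (redM (R := R) M _).map_smul]
  refine congrArg _ ?_
  rw [map_sub, map_neg, map_smul, ← hkey, smul_sub, smul_neg]

end Groth.Agent.HypAnn28
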