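import Groth.Agent.Lib.ResExact.Tor
import Groth.Agent.Lib.DMod.Homology
import Mathlib.LinearAlgebra.Finsupp.LinearCombination
import Mathlib.RingTheory.Finiteness.Finsupp

/-!
# Resolutions from linear maps, and killing `Tor` on them
-/

universe u

noncomputable section

open CategoryTheory CategoryTheory.Limits MonoidalCategory TensorProduct

namespace Groth.Agent.HypAnn28

variable {A : Type u} [CommRing A] {X : ℕ → Type u} [∀ i, AddCommGroup (X i)] [∀ i, Module A (X i)]
  [∀ i, Module.Projective A (X i)] {N : Type u} [AddCommGroup N] [Module A N]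
  (d : ∀ i, X (i + 1) →ₗ[A] X i) (π : X 0 →ₗ[A] N)
  (hd : ∀ n, Function.Exact (d (n + 1)) (d n)) (hπd : Function.Exact (d 0) π) (hπ : Function.Surjective π)

/-- The complex. -/
def cx : ChainComplex (ModuleCat.{u} A) ℕ :=
  ChainComplex.of (fun k => ModuleCat.of A (X k)) (fun k => ModuleCat.ofHom (d k))
    (fun k => ModuleCat.hom_ext (hd k).linearMap_comp_eq_zero)

theorem cx_d (k : ℕ) : (cx d hd).d (k + 1) k = ModuleCat.ofHom (d k) :=
  (ChainComplex.of_d (fun k => ModuleCat.of A (X k)) (fun k => ModuleCat.ofHom (d k)) k :)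

/-- The augmentation. -/
def aug : cx d hd ⟶ (ChainComplex.single₀ (ModuleCat.{u} A)).obj (ModuleCat.of A N) :=
  ((cx d hd).toSingle₀Equiv _).symm ⟨ModuleCat.ofHom π, by
    rw [cx_d]; exact ModuleCat.hom_ext hπd.linearMap_comp_eq_zero⟩

theorem aug_f_zero : (aug d π hd hπd).f 0 = ModuleCat.ofHom π :=
  ChainComplex.toSingle₀Equiv_symm_apply_f_zero _ _

include hπd hπ in
/-- The resolution given by exact linear maps between projective modules. -/
def mkRes : ProjectiveResolution (ModuleCat.of A N) :=
  { complex := cx d hd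
    projective := fun i => (IsProjective.iff_projective (R := A) (X i)).1 inferInstance
    π := aug d π hd hπd
    quasiIso := by
      rw [quasiIso_iff]
      intro i
      cases i with
      | zero =>
        rw [quasiIsoAt_iff_isIso_homologyMap, ConcreteCategory.isIso_iff_bijective]
        refine DMod.homologyMap_bijective_of _ (ChainComplex.prev ℕ 0) ChainComplex.next_nat_zero ?_ ?_
        · intro x _
          obtain ⟨r, hr⟩ := hπ x
          refine ⟨r, 0, by first | simp | (simp; rfl), ?_⟩
          rw [aug_f_zero, map_zero, add_zero]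
          exact hr
        · intro w y _ hy
          rw [aug_f_zero] at hy
          have hw : π w = 0 := by
            refine hy.symm.trans ?_
            simp only [HomologicalComplex.single_obj_d]
            rfl
          obtain ⟨v, hv⟩ := (hπd w).1 hw
          exact ⟨v, by rw [cx_d]; exact hv⟩
      | succ i =>
        rw [quasiIsoAt_iff_exactAt' _ _ (ChainComplex.exactAt_succ_single_obj ..), DMod.exactAt_iff_subsingleton,
          DMod.subsingleton_homology_iff (i := i + 2) (k := i) _ (ChainComplex.prev ℕ (i + 1)) (ChainComplex.next_nat_succ i)]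
        intro x hx
        rw [cx_d] at hx
        obtain ⟨v, hv⟩ := (hd i x).1 hx
        exact ⟨v, by rw [cx_d]; exact hv⟩ }

theorem mkRes_dLin (k : ℕ) : FlatSyz.dLin (mkRes d π hd hπd hπ) k = d k := by
  show ((cx d hd).d (k + 1) k).hom = _
  rw [cx_d]; rfl

include hd hπd hπ in
/-- Vanishing of `Tor` gives exactness after tensoring. -/
theorem ex_of_isZero_tor (K : Type u) [AddCommGroup K] [Module A K] (i : ℕ)
    (h : IsZero (((Tor (ModuleCat.{u} A) (i + 1)).obj (ModuleCat.of A K)).obj (ModuleCat.of A N))) :
    ResExact.Ex d K i := by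
  have h1 := (ResExact.isZero_tor_iff_ex (mkRes d π hd hπd hπ) K i).1 h
  have e : FlatSyz.dLin (mkRes d π hd hπd hπ) = d := funext (mkRes_dLin d π hd hπd hπ)
  rw [e] at h1
  exact h1

include hd hπd hπ in
/-- An element killing the cycles modulo the boundaries kills `Tor`. -/
theorem mem_annihilator_tor (K : Type u) [AddCommGroup K] [Module A K] (i : ℕ) (r : A)
    (h : ∀ z : K ⊗[A] X (i + 1), (d i).lTensor K z = 0 →
      r • z ∈ LinearMap.range ((d (i + 1)).lTensor K)) :
    r ∈ Module.annihilator A (((Tor (ModuleCat.{u} A) (i + 1)).obj (ModuleCat.of A K)).obj (ModuleCat.of A N)) := by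
  rw [Module.mem_annihilator]
  intro η
  let P := mkRes d π hd hπd hπ
  let e : ((Tor (ModuleCat.{u} A) (i + 1)).obj (ModuleCat.of A K)).obj (ModuleCat.of A N) ≅ _ :=
    P.isoLeftDerivedObj ((tensoringLeft (ModuleCat.{u} A)).obj (ModuleCat.of A K)) (i + 1)
  apply e.toLinearEquiv.injective
  rw [map_smul, map_zero]
  generalize e.toLinearEquiv η = c
  let Kx := (((tensoringLeft (ModuleCat.{u} A)).obj (ModuleCat.of A K)).mapHomologicalComplex
    (ComplexShape.down ℕ)).obj P.complex
  obtain ⟨w, hw⟩ := DMod.homologyπ_surjective Kx (i + 1) c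
  rw [← hw]
  refine (map_smul (Kx.homologyπ (i + 1)).hom r w).symm.trans ?_
  refine (DMod.homologyπ_eq_zero_iff (K := Kx) (i := i + 2) (ChainComplex.prev ℕ (i + 1)) _).2 ?_
  obtain ⟨v, hv⟩ := h (Kx.iCycles (i + 1) w) (by
    have h0 := DMod.d_iCycles (K := Kx) (i + 1) i w
    rw [← mkRes_dLin d π hd hπd hπ i]
    exact h0)
  refine ⟨v, ?_⟩
  refine Eq.trans ?_ (hv.trans ?_)
  · rw [← mkRes_dLin d π hd hπd hπ (i + 1)]
    rfl
  · exact (map_smul (Kx.iCycles (i + 1)).hom r w).symm

section Free

variable (A) (N)

/-- The syzygies. -/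
def syz : ℕ → ModuleCat.{u} A
  | 0 => ModuleCat.of A N
  | k + 1 => ModuleCat.of A (LinearMap.ker (Finsupp.linearCombination A (id : syz k → syz k)))

/-- The cover of a syzygy by the next free module. -/
def cover (k : ℕ) : ((syz A N k : Type u) →₀ A) →ₗ[A] syz A N k :=
  Finsupp.linearCombination A (id : syz A N k → syz A N k)

theorem cover_surjective (k : ℕ) : Function.Surjective (cover A N k) :=
  Finsupp.linearCombination_id_surjective A _

/-- The next cover, onto the kernel. -/
def coverNext (k : ℕ) : ((syz A N (k + 1) : Type u) →₀ A) →ₗ[A] LinearMap.ker (cover A N k) :=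
  cover A N (k + 1)

theorem coverNext_surjective (k : ℕ) : Function.Surjective (coverNext A N k) := cover_surjective A N (k + 1)

/-- The differential of the tautological free resolution. -/
def freeD (k : ℕ) : ((syz A N (k + 1) : Type u) →₀ A) →ₗ[A] ((syz A N k : Type u) →₀ A) :=
  (LinearMap.ker (cover A N k)).subtype ∘ₗ coverNext A N k

/-- The augmentation of the tautological free resolution. -/
def freeπ : ((syz A N 0 : Type u) →₀ A) →ₗ[A] N := cover A N 0

theorem freeπ_surjective : Function.Surjective (freeπ A N) := cover_surjective A N 0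

theorem range_freeD (k : ℕ) : LinearMap.range (freeD A N k) = LinearMap.ker (cover A N k) := by
  rw [freeD, LinearMap.range_comp, LinearMap.range_eq_top.2 (coverNext_surjective A N k), Submodule.map_top]
  exact Submodule.range_subtype _

theorem exact_freeD (k : ℕ) : Function.Exact (freeD A N (k + 1)) (freeD A N k) := by
  rw [LinearMap.exact_iff, range_freeD, freeD, LinearMap.ker_comp_of_ker_eq_bot _ (Submodule.ker_subtype _)]
  rfl

theorem exact_freeπ : Function.Exact (freeD A N 0) (freeπ A N) := by
  rw [LinearMap.exact_iff, range_freeD]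
  rfl

end Free

end Groth.Agent.HypAnn28
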